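import Groth.Agent.EtRepLib.Const
import Groth.Agent.FLCLib.Basic

/-!
# Finite locally constant abelian sheaves are representable by finite étale schemes
-/

set_option autoImplicit false
set_option backward.isDefEq.respectTransparency false
set_option backward.isDefEq.respectTransparency.types false
set_option linter.style.haveILetI false

universe u

open CategoryTheory CategoryTheory.Limits AlgebraicGeometry Opposite GrothendieckTopology

noncomputable section

namespace Groth.Agent.EtRepLib

open EtPtsLib FLCLib

variable {X : Scheme.{u}}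

/-- The data of a finite locally constant abelian sheaf. -/
theorem nonempty_constData (F : EtCoh.Ab X) (h : EtCoh.IsFiniteLocallyConstant F) :
    Nonempty (ConstData (F.obj ⋙ forget AddCommGrpCat.{u + 1})) := by
  choose U M θ hx hM hθ using (finiteLocallyConstant_iff F).1 h
  haveI : ∀ x, Finite (M x) := hM
  refine ⟨{ ι := X, U := U, cov := fun x => ⟨x, hx x⟩, n := fun x => Nat.card (M x)
            θ := fun x m => θ x ((Finite.equivFin (M x)).symm m), gen := ?_, sep := ?_ }⟩
  · intro i W g σ v
    obtain ⟨l, hl⟩ := exists_lift_geomPt v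
    obtain ⟨m, hm⟩ := (hθ i _ _ ((Scheme.pointSmallEtale _).fiber.map g l)).2 (germ _ F l σ)
    obtain ⟨Z, e, z, hz, he⟩ := ((Scheme.pointSmallEtale _).toPresheafFiber_eq_iff' W l
      (F.obj.map g.op (θ i m)) σ).1 ((germ_map _ F g l (θ i m)).trans hm)
    refine ⟨Z, e, liftHom _ z default, Finite.equivFin (M i) m, ?_, ?_⟩
    · refine Eq.trans ?_ hl
      refine Eq.trans ?_ (congrArg (fun q => liftHom _ q default) hz)
      rw [liftHom_map]
      rfl
    · rw [Equiv.symm_apply_apply]
      refine (show F.obj.map e.op σ = F.obj.map e.op (F.obj.map g.op (θ i m)) from he.symm).trans ?_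
      rw [op_comp, Functor.comp_map, Functor.map_comp]
      rfl
  · intro i W g v m m' hm
    obtain ⟨l, -⟩ := exists_lift_geomPt v
    refine (Finite.equivFin (M i)).symm.injective ((hθ i _ _ ((Scheme.pointSmallEtale _).fiber.map g l)).1 ?_)
    exact (germ_map _ F g l _).symm.trans ((congrArg (germ _ F l) hm).trans (germ_map _ F g l _))

/-- A finite locally constant abelian sheaf is represented by a finite étale scheme. -/
theorem representable_of_isFiniteLocallyConstant (F : EtCoh.Ab X) (h : EtCoh.IsFiniteLocallyConstant F) :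
    ∃ (U : X.Etale) (_ : IsFinite U.hom),
      Nonempty (F.obj ⋙ forget AddCommGrpCat.{u + 1} ≅ yoneda.obj U ⋙ uliftFunctor.{u + 1}) := by
  obtain ⟨D⟩ := nonempty_constData F h
  obtain ⟨U, hU, t, ht⟩ := D.exists_representing ((isSheaf_iff_isSheaf_of_type _ _).1
    ((sheafCompose X.smallEtaleTopology (forget AddCommGrpCat.{u + 1})).obj F).property)
  refine ⟨U, hU, ⟨(NatIso.ofComponents (fun W => (Equiv.ulift.trans (Equiv.ofBijective _ (ht W.unop))).toIso)
    fun {V W} f => ?_).symm⟩⟩
  ext a
  exact (map_map f.unop a.down t).symm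

end Groth.Agent.EtRepLib
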