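import Groth.Agent.EtRepLib.Descent
import Groth.Agent.ASp.FiniteCoprod

/-!
# Local models of locally constant sheaves of sets with finite fibres
-/

set_option autoImplicit false
set_option backward.isDefEq.respectTransparency false
set_option backward.isDefEq.respectTransparency.types false
set_option linter.style.haveILetI false
set_option maxHeartbeats 1000000

universe w u

open CategoryTheory CategoryTheory.Limits AlgebraicGeometry Opposite

noncomputable section

namespace Groth.Agent.EtRepLib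

open EtSheafCrit EtPointClass

variable {X : Scheme.{u}}

/-- On every member of a covering, finitely many sections give locally every section exactly once. -/
structure ConstData (P : X.Etaleᵒᵖ ⥤ Type w) where
  ι : Type u
  U : ι → X.Etale
  cov : ∀ x : X, ∃ i, x ∈ Set.range (U i).hom
  n : ι → ℕ
  θ : ∀ i, Fin (n i) → P.obj (op (U i))
  gen : ∀ (i : ι) (W : X.Etale) (g : W ⟶ U i) (σ : P.obj (op W)) (v : W.left),
    ∃ (Z : X.Etale) (e : Z ⟶ W) (z : Z.left) (m : Fin (n i)),
      e.left z = v ∧ P.map e.op σ = P.map (e ≫ g).op (θ i m)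
  sep : ∀ (i : ι) (W : X.Etale) (g : W ⟶ U i) (_ : W.left) (m m' : Fin (n i)),
    P.map g.op (θ i m) = P.map g.op (θ i m') → m = m'

variable {P : X.Etaleᵒᵖ ⥤ Type w} (D : ConstData P) (hP : Presieve.IsSheaf X.smallEtaleTopology P)

namespace ConstData

/-- The index of the pieces. -/
abbrev J : Type u := Σ i, Fin (D.n i)

/-- The components. -/
abbrev comp (k : D.J) : X.Etale := D.U k.1

/-- The covering. -/
abbrev base : X.Etale := sigmaEtale D.U

/-- The local model. -/
abbrev total : X.Etale := sigmaEtale D.comp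

/-- The projection of the local model. -/
def proj : D.total ⟶ D.base := sigmaOut (fun k : D.J => sigmaIncl D.U k.1)

theorem incl_proj (k : D.J) : sigmaIncl D.comp k ≫ D.proj = sigmaIncl D.U k.1 := sigmaIncl_out _ k

theorem mono_sigmaIncl {ι : Type u} (W : ι → X.Etale) (i : ι) {A : X.Etale} {f g : A ⟶ W i}
    (h : f ≫ sigmaIncl W i = g ≫ sigmaIncl W i) : f = g :=
  MorphismProperty.Over.Hom.ext ((cancel_mono (Limits.Sigma.ι (fun i => (W i).left) i)).1
    (congrArg (fun a : A ⟶ sigmaEtale W => a.left) h))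

theorem eq_of_meet {ι : Type u} (W : ι → X.Etale) {i j : ι} {A : X.Etale} (a : A.left) {f : A ⟶ W i} {g : A ⟶ W j}
    (h : f ≫ sigmaIncl W i = g ≫ sigmaIncl W j) : i = j := by
  by_contra hij
  exact (isEmpty_of_commSq_sigmaι_of_ne (g := fun i => (W i).left)
    ⟨congrArg (fun a : A ⟶ sigmaEtale W => a.left) h⟩ hij).false a

/-- An open of the preimage of a component maps to the component. -/
def toComp {ι : Type u} (W : ι → X.Etale) {A : X.Etale} (x : A ⟶ sigmaEtale W) (i : ι)
    (h : Set.range x.left ⊆ Set.range (sigmaIncl W i).left) : A ⟶ W i :=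
  MorphismProperty.Over.homMk
    (IsOpenImmersion.lift (Limits.Sigma.ι (fun i => (W i).left) i) x.left h) (by
      conv_rhs => rw [← MorphismProperty.Over.w x, ← IsOpenImmersion.lift_fac (Limits.Sigma.ι (fun i => (W i).left) i) x.left h]
      rw [Category.assoc]
      congr 1
      exact (MorphismProperty.Over.w (sigmaIncl W i)).symm)

theorem toComp_incl {ι : Type u} (W : ι → X.Etale) {A : X.Etale} (x : A ⟶ sigmaEtale W) (i : ι)
    (h : Set.range x.left ⊆ Set.range (sigmaIncl W i).left) : toComp W x i h ≫ sigmaIncl W i = x :=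
  MorphismProperty.Over.Hom.ext (IsOpenImmersion.lift_fac _ _ _)

theorem isFinite_proj : IsFinite D.proj.left := by
  refine IsZariskiLocalAtTarget.of_openCover (P := @IsFinite) (sigmaOpenCover fun i => (D.U i).left) fun i => ?_
  let A : ULift.{u} (Fin (D.n i)) → Scheme.{u} := fun _ => (D.U i).left
  let fi : ∐ A ⟶ (D.U i).left := Limits.Sigma.desc fun _ => 𝟙 _
  haveI : IsFinite fi := ASp.isFinite_sigmaDesc A _ fun m => (inferInstance : IsFinite (𝟙 (D.U i).left))
  let j : ∐ A ⟶ D.total.left := Limits.Sigma.desc fun m =>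
    Limits.Sigma.ι (fun k : D.J => (D.comp k).left) ⟨i, m.down⟩
  haveI : IsOpenImmersion j := by
    refine isOpenImmersion_sigmaDesc _ _ fun m m' hm => ?_
    refine Set.disjoint_iff_forall_ne.2 ?_
    rintro _ ⟨a, rfl⟩ _ ⟨b, rfl⟩ e
    obtain ⟨h1, -⟩ := Sigma.mk.inj_iff.1 ((sigmaι_eq_iff (fun k : D.J => (D.comp k).left) _ _ _ _).1 e)
    exact hm (ULift.ext _ _ (eq_of_heq (Sigma.mk.inj_iff.1 h1).2))
  have hw : j ≫ D.proj.left = fi ≫ Limits.Sigma.ι (fun i => (D.U i).left) i := by
    refine Sigma.hom_ext _ _ fun m => ?_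
    simp only [j, fi, Sigma.ι_desc_assoc]
    exact (Sigma.ι_desc _ _).trans (Category.id_comp _).symm
  have hr : D.proj.left ⁻¹ᵁ (Limits.Sigma.ι (fun i => (D.U i).left) i).opensRange = j.opensRange := by
    refine TopologicalSpace.Opens.ext (Set.ext fun v => ⟨fun hv => ?_, ?_⟩)
    · obtain ⟨⟨i', m⟩, z, rfl⟩ := sigmaIncl_cover D.comp v
      obtain ⟨y, hy⟩ := hv
      have e : D.proj.left ((sigmaIncl D.comp ⟨i', m⟩).left z) = Limits.Sigma.ι (fun i => (D.U i).left) i' z :=
        congrArg (fun f : D.comp ⟨i', m⟩ ⟶ D.base => f.left z) (D.incl_proj ⟨i', m⟩)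
      obtain ⟨h1, -⟩ := Sigma.mk.inj_iff.1 ((sigmaι_eq_iff _ _ _ _ _).1 (hy.trans e))
      cases h1
      exact ⟨Limits.Sigma.ι A ⟨m⟩ z, by
        rw [← Scheme.Hom.comp_apply, Sigma.ι_desc]
        rfl⟩
    · rintro ⟨y, rfl⟩
      exact ⟨fi y, (congrArg (fun f : ∐ A ⟶ D.base.left => f y) hw).symm⟩
  have hp := IsOpenImmersion.isPullback fi j (Limits.Sigma.ι (fun i => (D.U i).left) i) D.proj.left hw hr
  refine ((MorphismProperty.arrow_mk_iso_iff @IsFinite
    (Arrow.isoMk hp.flip.isoPullback (Iso.refl _) ?_)).1 ‹IsFinite fi›)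
  exact hp.flip.isoPullback_hom_snd.trans (Category.comp_id _).symm

section

variable {W : X.Etale} (x : W ⟶ D.base) (σ : P.obj (op W))

/-- The points near which the section is the one of a component. -/
def part (k : D.J) : Set W.left :=
  {v | ∃ (Z : X.Etale) (e : Z ⟶ W) (g : Z ⟶ D.U k.1) (z : Z.left),
    e.left z = v ∧ e ≫ x = g ≫ sigmaIncl D.U k.1 ∧ P.map e.op σ = P.map g.op (D.θ k.1 k.2)}

theorem isOpen_part (k : D.J) : IsOpen (D.part x σ k) := by
  refine isOpen_iff_forall_mem_open.2 fun v ⟨Z, e, g, z, hz, he, hσ⟩ => ?_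
  exact ⟨Set.range e.left, fun v' ⟨z', hz'⟩ => ⟨Z, e, g, z', hz', he, hσ⟩,
    e.left.isOpenMap.isOpen_range, z, hz⟩

theorem exists_mem_part (v : W.left) : ∃ k, v ∈ D.part x σ k := by
  obtain ⟨i, y, hy⟩ := sigmaIncl_cover D.U (x.left v)
  haveI : IsOpenImmersion (sigmaIncl D.U i).left :=
    inferInstanceAs (IsOpenImmersion (Limits.Sigma.ι (fun i => (D.U i).left) i))
  let O : W.left.Opens := x.left ⁻¹ᵁ (sigmaIncl D.U i).left.opensRange
  have hO : Set.range (incl W O ≫ x).left ⊆ Set.range (sigmaIncl D.U i).left := by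
    rintro _ ⟨z, rfl⟩
    exact z.2
  let g₀ : sub W O ⟶ D.U i := toComp D.U (incl W O ≫ x) i hO
  obtain ⟨Z, e, z, m, hz, hσ⟩ := D.gen i _ g₀ (P.map (incl W O).op σ) ⟨v, ⟨y, hy⟩⟩
  refine ⟨⟨i, m⟩, Z, e ≫ incl W O, e ≫ g₀, z, ?_, ?_, ?_⟩
  · show (e.left ≫ O.ι) z = v
    rw [Scheme.Hom.comp_apply, hz]
    rfl
  · rw [Category.assoc, Category.assoc, toComp_incl]
  · rw [← map_map, hσ]

theorem part_eq {k l : D.J} {v : W.left} (hk : v ∈ D.part x σ k) (hl : v ∈ D.part x σ l) : k = l := by
  obtain ⟨i, m⟩ := k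
  obtain ⟨i', m'⟩ := l
  obtain ⟨Z, e, g, z, hz, he, hσ⟩ := hk
  obtain ⟨Z', e', g', z', hz', he', hσ'⟩ := hl
  obtain ⟨w, hw, -⟩ := Scheme.Pullback.exists_preimage_pullback (f := e.left) (g := e'.left) z z' (hz.trans hz'.symm)
  let R : X.Etale :=
    haveI := Z.prop
    Scheme.Etale.mk (pullback.fst e.left e'.left ≫ Z.hom)
  let r : R ⟶ Z := MorphismProperty.Over.homMk (pullback.fst e.left e'.left) rfl
  let r' : R ⟶ Z' := MorphismProperty.Over.homMk (pullback.snd e.left e'.left) (by
    show _ = pullback.fst e.left e'.left ≫ Z.hom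
    rw [← MorphismProperty.Over.w e, ← MorphismProperty.Over.w e', ← Category.assoc, ← Category.assoc, pullback.condition])
  have hr : r ≫ e = r' ≫ e' := MorphismProperty.Over.Hom.ext pullback.condition
  have hg : (r ≫ g) ≫ sigmaIncl D.U i = (r' ≫ g') ≫ sigmaIncl D.U i' := by
    rw [Category.assoc, Category.assoc, ← he, ← he', ← Category.assoc, ← Category.assoc, hr]
  obtain rfl : i = i' := eq_of_meet D.U (A := R) w hg
  have hgg : r ≫ g = r' ≫ g' := mono_sigmaIncl D.U i hg
  obtain rfl : m = m' := by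
    refine D.sep i R (r ≫ g) w m m' ?_
    conv_rhs => rw [hgg]
    rw [← map_map, ← map_map, ← hσ, ← hσ', map_map, map_map, hr]
  rfl

/-- The opens of the parts. -/
def partO (k : D.J) : W.left.Opens := ⟨D.part x σ k, D.isOpen_part x σ k⟩

theorem range_partO (k : D.J) :
    Set.range (incl W (D.partO x σ k) ≫ x).left ⊆ Set.range (sigmaIncl D.U k.1).left := by
  rintro _ ⟨⟨v, hv⟩, rfl⟩
  obtain ⟨Z, e, g, z, hz, he, hσ⟩ := hv
  refine ⟨g.left z, ?_⟩
  show _ = x.left v
  rw [← hz, ← Scheme.Hom.comp_apply, ← Scheme.Hom.comp_apply]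
  exact congrArg (fun f : Z ⟶ D.base => f.left z) he.symm

/-- The map of a part to its component. -/
def partMap (k : D.J) : sub W (D.partO x σ k) ⟶ D.U k.1 :=
  toComp D.U (incl W (D.partO x σ k) ≫ x) k.1 (D.range_partO x σ k)

theorem partMap_incl (k : D.J) :
    D.partMap x σ k ≫ sigmaIncl D.U k.1 = incl W (D.partO x σ k) ≫ x := toComp_incl _ _ _ _

include hP in
theorem map_part (k : D.J) :
    P.map (incl W (D.partO x σ k)).op σ = P.map (D.partMap x σ k).op (D.θ k.1 k.2) := by
  set A := sub W (D.partO x σ k)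
  let R : Sieve A :=
    { arrows := fun Z f => P.map f.op (P.map (incl W (D.partO x σ k)).op σ) =
        P.map f.op (P.map (D.partMap x σ k).op (D.θ k.1 k.2))
      downward_closed := fun {Z Z' f} hf h => by rw [← map_map, hf, map_map] }
  refine (hP.isSeparated R ?_).ext fun Z f hf => hf
  have hι : Sieve.ofArrows (fun q : {q : Σ Z : X.Etale, (Z ⟶ A) // R q.2} => q.1.1) (fun q => q.1.2) ∈
      X.smallEtaleTopology A := by
    rw [Scheme.ofArrows_mem_smallEtaleTopology_iff, Set.eq_univ_iff_forall]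
    intro p
    obtain ⟨Z, e, g, z, hz, he, hσ⟩ := p.2
    let O : Z.left.Opens := e.left ⁻¹ᵁ D.partO x σ k
    have hO : Set.range (incl Z O ≫ e).left ⊆ (D.partO x σ k : Set W.left) := by
      rintro _ ⟨z', rfl⟩
      exact z'.2
    let f : sub Z O ⟶ A := factor (incl Z O ≫ e) (D.partO x σ k) hO
    have hf : f ≫ incl W (D.partO x σ k) = incl Z O ≫ e := factor_incl _ _ _
    have hg : f ≫ D.partMap x σ k = incl Z O ≫ g := by
      refine mono_sigmaIncl D.U k.1 ?_
      rw [Category.assoc, partMap_incl, ← Category.assoc, hf, Category.assoc, Category.assoc, he]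
    refine Set.mem_iUnion.2 ⟨⟨⟨sub Z O, f⟩, ?_⟩, ⟨z, show e.left z ∈ (D.partO x σ k : Set W.left) from hz ▸ p.2⟩, ?_⟩
    · show P.map f.op _ = P.map f.op _
      rw [map_map, map_map, hf, hg, ← map_map, ← map_map, hσ]
    · refine Subtype.ext ?_
      exact (congrArg (fun a : sub Z O ⟶ W => a.left _) hf).trans hz
  refine X.smallEtaleTopology.superset_covering ?_ hι
  rw [Sieve.ofArrows, Sieve.generate_le_iff]
  rintro _ _ ⟨q⟩
  exact q.2

/-- The piece of the universal map over a part. -/
def piece (k : D.J) : sub W (D.partO x σ k) ⟶ D.total := D.partMap x σ k ≫ sigmaIncl D.comp k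

/-- The covering by the parts. -/
def partCover : W.left.OpenCover :=
  W.left.openCoverOfIsOpenCover (D.partO x σ) (TopologicalSpace.Opens.ext <| Set.eq_univ_iff_forall.2 fun v =>
    TopologicalSpace.Opens.mem_iSup.2 (D.exists_mem_part x σ v))

theorem isEmpty_meet {k l : D.J} (hkl : k ≠ l) {T : Scheme.{u}} (f : T ⟶ (D.partO x σ k).toScheme)
    (g : T ⟶ (D.partO x σ l).toScheme) (h : f ≫ (D.partO x σ k).ι = g ≫ (D.partO x σ l).ι) : IsEmpty T := by
  refine ⟨fun p => hkl (D.part_eq x σ (f p).2 ?_)⟩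
  have e : ((f p).1 : W.left) = (g p).1 := congrArg (fun q : T ⟶ W.left => q p) h
  rw [e]
  exact (g p).2

theorem glue_compat (k l : D.J) :
    pullback.fst (D.partO x σ k).ι (D.partO x σ l).ι ≫ (D.piece x σ k).left =
      pullback.snd (D.partO x σ k).ι (D.partO x σ l).ι ≫ (D.piece x σ l).left := by
  by_cases hkl : k = l
  · subst hkl
    congr 1
    exact (cancel_mono (D.partO x σ k).ι).1 pullback.condition
  · exact (@isInitialOfIsEmpty _ (D.isEmpty_meet x σ hkl _ _ pullback.condition)).hom_ext _ _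

/-- The underlying universal map. -/
def liftLeft : W.left ⟶ D.total.left :=
  (D.partCover x σ).glueMorphisms (fun k => (D.piece x σ k).left) (D.glue_compat x σ)

theorem ι_liftLeft (k : D.J) : (D.partO x σ k).ι ≫ D.liftLeft x σ = (D.piece x σ k).left :=
  Scheme.Cover.ι_glueMorphisms (D.partCover x σ) (fun k => (D.piece x σ k).left) (D.glue_compat x σ) k

/-- The universal map. -/
def lift : W ⟶ D.total :=
  MorphismProperty.Over.homMk (D.liftLeft x σ) ((D.partCover x σ).hom_ext _ _ fun k => by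
    refine ((Category.assoc _ _ _).symm.trans (congrArg (· ≫ D.total.hom) (D.ι_liftLeft x σ k))).trans ?_
    exact MorphismProperty.Over.w (D.piece x σ k))

theorem incl_lift (k : D.J) : incl W (D.partO x σ k) ≫ D.lift x σ = D.piece x σ k :=
  MorphismProperty.Over.Hom.ext (D.ι_liftLeft x σ k)

end

include hP in
theorem exists_section : ∃ s : P.obj (op D.total), ∀ k, P.map (sigmaIncl D.comp k).op s = D.θ k.1 k.2 := by
  have hz : Presieve.IsSheaf (zar X) P := Presieve.isSheaf_of_le _ (zar_le (X := X)) hP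
  obtain ⟨s, hs, -⟩ := zar_glue P hz (sigmaIncl D.comp)
    (fun k => inferInstanceAs (IsOpenImmersion (Limits.Sigma.ι (fun k => (D.comp k).left) k)))
    (sigmaIncl_cover D.comp) (fun k => D.θ k.1 k.2) fun k l Z gk gl h => by
      by_cases hZ : IsEmpty Z.left
      · exact zar_ext P hz (fun _ : PEmpty.{u + 1} => ⊥) (fun z => hZ.elim z) _ _ fun e => e.elim
      · obtain ⟨z⟩ := not_isEmpty_iff.1 hZ
        obtain rfl : k = l := eq_of_meet D.comp z h
        rw [mono_sigmaIncl D.comp k h]
  exact ⟨s, hs⟩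

include hP in
theorem lift_unique {W : X.Etale} (x : W ⟶ D.base) (σ : P.obj (op W)) (s : P.obj (op D.total))
    (hs : ∀ k, P.map (sigmaIncl D.comp k).op s = D.θ k.1 k.2) :
    ∃! a : W ⟶ D.total, a ≫ D.proj = x ∧ P.map a.op s = σ := by
  have hz : Presieve.IsSheaf (zar X) P := Presieve.isSheaf_of_le _ (zar_le (X := X)) hP
  refine ⟨D.lift x σ, ⟨MorphismProperty.Over.Hom.ext ((D.partCover x σ).hom_ext _ _ fun k => ?_), ?_⟩,
    fun a ⟨hax, has⟩ => MorphismProperty.Over.Hom.ext ((D.partCover x σ).hom_ext _ _ fun k => ?_)⟩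
  · have : incl W (D.partO x σ k) ≫ D.lift x σ ≫ D.proj = incl W (D.partO x σ k) ≫ x := by
      rw [← Category.assoc, incl_lift, piece, Category.assoc, incl_proj, partMap_incl]
    exact congrArg (fun f : sub W (D.partO x σ k) ⟶ D.base => f.left) this
  · refine zar_ext P hz (D.partO x σ) (D.exists_mem_part x σ) _ _ fun k => ?_
    rw [map_map, incl_lift, piece, ← map_map, hs, D.map_part hP x σ k]
  · suffices h : incl W (D.partO x σ k) ≫ a = incl W (D.partO x σ k) ≫ D.lift x σ from
      congrArg (fun f : sub W (D.partO x σ k) ⟶ D.total => f.left) h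
    rw [incl_lift]
    have key : ∀ l (v : W.left), a.left v ∈ Set.range (sigmaIncl D.comp l).left → v ∈ D.part x σ l := by
      intro l v hv
      haveI : IsOpenImmersion (sigmaIncl D.comp l).left :=
        inferInstanceAs (IsOpenImmersion (Limits.Sigma.ι (fun k => (D.comp k).left) l))
      let O : W.left.Opens := a.left ⁻¹ᵁ (sigmaIncl D.comp l).left.opensRange
      have hO : Set.range (incl W O ≫ a).left ⊆ Set.range (sigmaIncl D.comp l).left := by
        rintro _ ⟨z, rfl⟩
        exact z.2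
      refine ⟨sub W O, incl W O, toComp D.comp (incl W O ≫ a) l hO, ⟨v, hv⟩, rfl, ?_, ?_⟩
      · calc incl W O ≫ x = (toComp D.comp (incl W O ≫ a) l hO ≫ sigmaIncl D.comp l) ≫ D.proj := by
              rw [toComp_incl, Category.assoc, hax]
          _ = _ := by rw [Category.assoc, incl_proj]
      · calc P.map (incl W O).op σ = P.map (toComp D.comp (incl W O ≫ a) l hO ≫ sigmaIncl D.comp l).op s := by
              rw [toComp_incl, ← has, map_map]
          _ = _ := by rw [← map_map, hs]
    have hrange : Set.range (incl W (D.partO x σ k) ≫ a).left ⊆ Set.range (sigmaIncl D.comp k).left := by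
      rintro _ ⟨⟨v, hv⟩, rfl⟩
      obtain ⟨l, hl⟩ := sigmaIncl_cover D.comp (a.left v)
      obtain rfl := D.part_eq x σ hv (key l v hl)
      exact hl
    refine (toComp_incl D.comp (incl W (D.partO x σ k) ≫ a) k hrange).symm.trans ?_
    refine congrArg (· ≫ sigmaIncl D.comp k) ?_
    refine mono_sigmaIncl D.U k.1 ?_
    rw [partMap_incl, ← incl_proj, ← Category.assoc, toComp_incl, Category.assoc, hax]

include D hP in
theorem nonempty_localModel : Nonempty (LocalModel P) := by
  obtain ⟨s, hs⟩ := D.exists_section hP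
  refine ⟨⟨D.base, D.total, D.proj, s, ⟨fun x => ?_⟩, D.isFinite_proj, fun W x σ => D.lift_unique hP x σ s hs⟩⟩
  obtain ⟨i, y, hy⟩ := D.cov x
  refine ⟨(sigmaIncl D.U i).left y, ?_⟩
  exact ((Scheme.Hom.comp_apply (sigmaIncl D.U i).left D.base.hom y).symm.trans
    (congrArg (fun f : (D.U i).left ⟶ X => f y) (MorphismProperty.Over.w (sigmaIncl D.U i)))).trans hy

include D hP in
/-- Locally constant sheaves of sets with finite fibres are representable by finite étale schemes. -/
theorem exists_representing :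
    ∃ (U : X.Etale) (_ : IsFinite U.hom) (t : P.obj (op U)),
      ∀ W : X.Etale, Function.Bijective fun h : W ⟶ U => P.map h.op t :=
  let ⟨L⟩ := D.nonempty_localModel hP
  EtRepLib.exists_representing L hP

end ConstData

end Groth.Agent.EtRepLib
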