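import Groth.Agent.EtSheafCrit.Basic
import Groth.Agent.SchDesc.TorsorDesc
import Groth.Agent.SchDesc.Effective
import Groth.Agent.FpqcDesc.Basic
import Groth.Agent.S1133
import Groth.Agent.S2906

/-!
# Representability of étale sheaves of sets by descent

A sheaf of sets on the small étale site which is represented, over an étale surjection, by a finite étale
scheme is represented by a finite étale scheme.
-/

set_option autoImplicit false
set_option backward.isDefEq.respectTransparency false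
set_option backward.isDefEq.respectTransparency.types false
set_option linter.style.haveILetI false
set_option maxHeartbeats 1000000

universe w u

open CategoryTheory CategoryTheory.Limits AlgebraicGeometry Opposite

noncomputable section

namespace Groth.Agent.EtRepLib

variable {X : Scheme.{u}} (P : X.Etaleᵒᵖ ⥤ Type w)

/-- `P` is represented over the étale covering `S' → X` by the finite `S'`-scheme `V`. -/
structure LocalModel where
  S' : X.Etale
  V : X.Etale
  q : V ⟶ S'
  s : P.obj (op V)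
  surj : Surjective S'.hom
  fin : IsFinite q.left
  uni : ∀ (W : X.Etale) (x : W ⟶ S') (σ : P.obj (op W)), ∃! a : W ⟶ V, a ≫ q = x ∧ P.map a.op s = σ

variable {P}

theorem map_map {A B C : X.Etale} (f : A ⟶ B) (g : B ⟶ C) (t : P.obj (op C)) :
    P.map f.op (P.map g.op t) = P.map (f ≫ g).op t := by
  rw [op_comp, Functor.map_comp]; rfl

theorem map_id' {A : X.Etale} (t : P.obj (op A)) : P.map (𝟙 A : A ⟶ A).op t = t := by
  rw [op_id, P.map_id]; rfl

variable (L : LocalModel P)

/-- Two points of the covering of a scheme of the site. -/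
def bc (W : X.Etale) : X.Etale :=
  haveI := W.prop
  haveI := L.S'.prop
  Scheme.Etale.mk (pullback.fst W.hom L.S'.hom ≫ W.hom)

/-- The first projection. -/
def bcπ (W : X.Etale) : bc L W ⟶ W := MorphismProperty.Over.homMk (pullback.fst W.hom L.S'.hom) rfl

/-- The second projection. -/
def bcρ (W : X.Etale) : bc L W ⟶ L.S' :=
  MorphismProperty.Over.homMk (pullback.snd W.hom L.S'.hom) pullback.condition.symm

/-- The transport morphism. -/
def theta : bc L L.V ⟶ L.V := (L.uni (bc L L.V) (bcρ L L.V) (P.map (bcπ L L.V).op L.s)).exists.choose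

theorem theta_q : theta L ≫ L.q = bcρ L L.V :=
  (L.uni (bc L L.V) (bcρ L L.V) (P.map (bcπ L L.V).op L.s)).exists.choose_spec.1

theorem theta_s : P.map (theta L).op L.s = P.map (bcπ L L.V).op L.s :=
  (L.uni (bc L L.V) (bcρ L L.V) (P.map (bcπ L L.V).op L.s)).exists.choose_spec.2

/-- A pair of a point of `V` and a point of `S'`. -/
def pair {W : X.Etale} (a : W ⟶ L.V) (x : W ⟶ L.S') : W ⟶ bc L L.V :=
  MorphismProperty.Over.homMk
    (pullback.lift a.left x.left ((MorphismProperty.Over.w a).trans (MorphismProperty.Over.w x).symm))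
    (by
      show pullback.lift _ _ _ ≫ pullback.fst _ _ ≫ L.V.hom = W.hom
      rw [pullback.lift_fst_assoc]
      exact MorphismProperty.Over.w a)

theorem pair_π {W : X.Etale} (a : W ⟶ L.V) (x : W ⟶ L.S') : pair L a x ≫ bcπ L L.V = a :=
  MorphismProperty.Over.Hom.ext (pullback.lift_fst _ _ _)

theorem pair_ρ {W : X.Etale} (a : W ⟶ L.V) (x : W ⟶ L.S') : pair L a x ≫ bcρ L L.V = x :=
  MorphismProperty.Over.Hom.ext (pullback.lift_snd _ _ _)

theorem pair_theta_eq {W : X.Etale} (a b : W ⟶ L.V) (h : P.map a.op L.s = P.map b.op L.s) :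
    pair L a (b ≫ L.q) ≫ theta L = b := by
  refine (L.uni W (b ≫ L.q) (P.map b.op L.s)).unique ⟨?_, ?_⟩ ⟨rfl, rfl⟩
  · rw [Category.assoc, theta_q, pair_ρ]
  · rw [← map_map, theta_s, map_map, pair_π, h]

theorem pair_theta_s {W : X.Etale} (a : W ⟶ L.V) (x : W ⟶ L.S') :
    P.map (pair L a x ≫ theta L).op L.s = P.map a.op L.s := by
  rw [← map_map, theta_s, map_map, pair_π]

variable {T : Scheme.{u}}

theorem q_hom : L.q.left ≫ L.S'.hom = L.V.hom := MorphismProperty.Over.w L.q

theorem lift_hom {x₀ : T ⟶ L.S'.left} (v : Desc.Lifts (Over.mk L.q.left) x₀) :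
    v.1 ≫ L.V.hom = x₀ ≫ L.S'.hom :=
  (congrArg (v.1 ≫ ·) (q_hom L).symm).trans <| (Category.assoc _ _ _).symm.trans
    (congrArg (· ≫ L.S'.hom) (v.2 : v.1 ≫ L.q.left = x₀))

/-- The gluing map on points. -/
def move (x₀ x₁ : T ⟶ L.S'.left) (h : x₀ ≫ L.S'.hom = x₁ ≫ L.S'.hom)
    (v : Desc.Lifts (Over.mk L.q.left) x₀) : Desc.Lifts (Over.mk L.q.left) x₁ :=
  ⟨pullback.lift v.1 x₁ (lift_hom L v |>.trans h) ≫ (theta L).left, by
    have e : (theta L).left ≫ L.q.left = pullback.snd L.V.hom L.S'.hom :=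
      congrArg (fun f : bc L L.V ⟶ L.S' => f.left) (theta_q L)
    show (_ ≫ _) ≫ L.q.left = x₁
    rw [Category.assoc, e]
    exact pullback.lift_snd _ _ _⟩

theorem move_self (x : T ⟶ L.S'.left) (v : Desc.Lifts (Over.mk L.q.left) x) : move L x x rfl v = v := by
  refine Subtype.ext ?_
  have e : (pair L (𝟙 L.V) (𝟙 L.V ≫ L.q) ≫ theta L).left = (𝟙 L.V : L.V ⟶ L.V).left :=
    congrArg (fun f : L.V ⟶ L.V => f.left) (pair_theta_eq L _ _ rfl)
  have e' : pullback.lift v.1 x (by
      rw [← q_hom, ← Category.assoc]; exact congrArg (· ≫ L.S'.hom) (v.2 : v.1 ≫ L.q.left = x)) =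
      v.1 ≫ (pair L (𝟙 L.V) (𝟙 L.V ≫ L.q)).left := by
    refine pullback.hom_ext ?_ ?_
    · rw [pullback.lift_fst, Category.assoc]
      show _ = v.1 ≫ pullback.lift _ _ _ ≫ pullback.fst _ _
      rw [pullback.lift_fst]
      exact (Category.comp_id _).symm
    · rw [pullback.lift_snd, Category.assoc]
      show _ = v.1 ≫ pullback.lift _ _ _ ≫ pullback.snd _ _
      rw [pullback.lift_snd, Category.id_comp]
      exact (v.2 : v.1 ≫ L.q.left = x).symm
  show _ ≫ (theta L).left = v.1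
  rw [e', Category.assoc]
  exact (congrArg (v.1 ≫ ·) e).trans (Category.comp_id _)

theorem move_move (x₀ x₁ x₂ : T ⟶ L.S'.left) (h₀₁ : x₀ ≫ L.S'.hom = x₁ ≫ L.S'.hom)
    (h₁₂ : x₁ ≫ L.S'.hom = x₂ ≫ L.S'.hom) (v : Desc.Lifts (Over.mk L.q.left) x₀) :
    move L x₁ x₂ h₁₂ (move L x₀ x₁ h₀₁ v) = move L x₀ x₂ (h₀₁.trans h₁₂) v := by
  refine Subtype.ext ?_
  let W := bc L (bc L L.V)
  let a : W ⟶ L.V := bcπ L (bc L L.V) ≫ theta L
  let a₀ : W ⟶ L.V := bcπ L (bc L L.V) ≫ bcπ L L.V
  let x : W ⟶ L.S' := bcρ L (bc L L.V)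
  have key : pair L a x ≫ theta L = pair L a₀ x ≫ theta L := by
    refine (L.uni W x (P.map a₀.op L.s)).unique ⟨?_, ?_⟩ ⟨?_, ?_⟩
    · rw [Category.assoc, theta_q, pair_ρ]
    · rw [pair_theta_s, ← map_map, theta_s, map_map]
    · rw [Category.assoc, theta_q, pair_ρ]
    · rw [pair_theta_s]
  have hv : v.1 ≫ L.q.left = x₀ := v.2
  let p₁ : T ⟶ pullback L.V.hom L.S'.hom := pullback.lift v.1 x₁ ((lift_hom L v).trans h₀₁)
  have hp₁ : p₁ ≫ pullback.fst L.V.hom L.S'.hom ≫ L.V.hom = x₂ ≫ L.S'.hom := by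
    rw [pullback.lift_fst_assoc, lift_hom, h₀₁, h₁₂]
  let p₂ : T ⟶ W.left := pullback.lift p₁ x₂ hp₁
  have ha : p₂ ≫ (pair L a x).left = pullback.lift (p₁ ≫ (theta L).left) x₂
      ((lift_hom L (move L x₀ x₁ h₀₁ v)).trans h₁₂) := by
    refine pullback.hom_ext ?_ ?_
    · rw [pullback.lift_fst, Category.assoc]
      show p₂ ≫ pullback.lift _ _ _ ≫ pullback.fst _ _ = _
      rw [pullback.lift_fst]
      show p₂ ≫ pullback.fst _ _ ≫ (theta L).left = _
      rw [pullback.lift_fst_assoc]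
    · rw [pullback.lift_snd, Category.assoc]
      show p₂ ≫ pullback.lift _ _ _ ≫ pullback.snd _ _ = _
      rw [pullback.lift_snd]
      exact pullback.lift_snd _ _ _
  have ha₀ : p₂ ≫ (pair L a₀ x).left = pullback.lift v.1 x₂ ((lift_hom L v).trans (h₀₁.trans h₁₂)) := by
    refine pullback.hom_ext ?_ ?_
    · rw [pullback.lift_fst, Category.assoc]
      show p₂ ≫ pullback.lift _ _ _ ≫ pullback.fst _ _ = _
      rw [pullback.lift_fst]
      show p₂ ≫ pullback.fst _ _ ≫ pullback.fst _ _ = _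
      rw [pullback.lift_fst_assoc]
      exact pullback.lift_fst _ _ _
    · rw [pullback.lift_snd, Category.assoc]
      show p₂ ≫ pullback.lift _ _ _ ≫ pullback.snd _ _ = _
      rw [pullback.lift_snd]
      exact pullback.lift_snd _ _ _
  have k : (pair L a x).left ≫ (theta L).left = (pair L a₀ x).left ≫ (theta L).left :=
    congrArg (fun f : W ⟶ L.V => f.left) key
  show pullback.lift (p₁ ≫ (theta L).left) x₂ _ ≫ (theta L).left = pullback.lift v.1 x₂ _ ≫ (theta L).left
  rw [← ha, ← ha₀, Category.assoc, Category.assoc, k]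

/-- The descent datum. -/
def dd : Desc.SchDD L.S'.hom where
  obj := Over.mk L.q.left
  φ T x₀ x₁ h :=
    { toFun := move L x₀ x₁ h
      invFun := move L x₁ x₀ h.symm
      left_inv := fun v => (move_move L x₀ x₁ x₀ h h.symm v).trans (move_self L x₀ v)
      right_inv := fun v => (move_move L x₁ x₀ x₁ h.symm h v).trans (move_self L x₁ v) }
  φ_natural T T' g x₀ x₁ h h' v v' hv' := by
    show pullback.lift v'.1 (g ≫ x₁) _ ≫ (theta L).left = g ≫ pullback.lift v.1 x₁ _ ≫ (theta L).left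
    rw [← Category.assoc g]
    congr 1
    exact pullback.hom_ext (by simp [hv']) (by simp)
  φ_self T x v := move_self L x v
  φ_comp T x₀ x₁ x₂ h₀₁ h₁₂ v := move_move L x₀ x₁ x₂ h₀₁ h₁₂ v

variable (hP : Presieve.IsSheaf X.smallEtaleTopology P)

include L hP in
/-- A sheaf with a local model is representable by a finite étale scheme. -/
theorem exists_representing :
    ∃ (U : X.Etale) (_ : IsFinite U.hom) (t : P.obj (op U)),
      ∀ W : X.Etale, Function.Bijective fun h : W ⟶ U => P.map h.op t := by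
  haveI := L.surj
  haveI := L.fin
  haveI : AlgebraicGeometry.Etale L.S'.hom := L.S'.prop
  haveI : SchDesc.IsFpqc L.S'.hom := SchDesc.IsFpqc.of_locallyOfFinitePresentation _
  haveI : IsAffineHom (dd L).obj.hom := inferInstanceAs (IsAffineHom L.q.left)
  obtain ⟨Q⟩ := SchDesc.quot_top_of_affine @IsAffineHom
    (fun f g hf => MorphismProperty.pullback_snd (P := @IsAffineHom) f g hf) (dd L) ‹_›
    fun Q U l q i hQ hU hl hl' _ _ _ _ D' hD' => by
      haveI : IsAffine D'.obj.left := isAffine_of_isAffineHom D'.obj.hom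
      exact SchDesc.quot_of_quasiAffine D'
  obtain ⟨U₀, ⟨e⟩⟩ := Q.effective
  let p := L.S'.hom
  let e₀ : pullback p U₀.hom ⟶ L.V.left := e.hom.hom.left
  let e₁ : L.V.left ⟶ pullback p U₀.hom := e.inv.hom.left
  have he₀₁ : e₀ ≫ e₁ = 𝟙 _ := congrArg (fun f => f.hom.left) e.hom_inv_id
  have he₁₀ : e₁ ≫ e₀ = 𝟙 _ := congrArg (fun f => f.hom.left) e.inv_hom_id
  haveI : IsIso e₀ := ⟨e₁, he₀₁, he₁₀⟩
  have heq : e₀ ≫ L.q.left = pullback.fst p U₀.hom := Over.w e.hom.hom
  haveI : AlgebraicGeometry.Etale L.q.left := inferInstance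
  have desc : ∀ R : MorphismProperty Scheme.{u}, [R.IsStableUnderBaseChange] → [IsZariskiLocalAtTarget R] →
      R.DescendsAlong (@Surjective ⊓ @Flat ⊓ @QuasiCompact) → R L.q.left → R U₀.hom := by
    intro R _ _ hd hR
    refine TorsorDesc.prop_of_isFpqc R hd U₀.hom p ?_
    refine (R.arrow_mk_iso_iff (Arrow.isoMk (asIso ((pullbackSymmetry U₀.hom p).hom ≫ e₀)) (Iso.refl _) ?_)).mpr hR
    simp only [Arrow.mk_left, Arrow.mk_right, Arrow.mk_hom, asIso_hom, Iso.refl_hom, Category.comp_id,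
      Category.assoc, heq, pullbackSymmetry_hom_comp_fst]
  haveI : IsFinite U₀.hom := desc @IsFinite FpqcDesc.isFinite_descends L.fin
  haveI : AlgebraicGeometry.Etale U₀.hom := desc @AlgebraicGeometry.Etale inferInstance ‹_›
  let U : X.Etale := Scheme.Etale.mk U₀.hom
  let πU : L.V ⟶ U := MorphismProperty.Over.homMk (e₁ ≫ pullback.snd p U₀.hom) (by
    show (e₁ ≫ pullback.snd p U₀.hom) ≫ U₀.hom = L.V.hom
    rw [Category.assoc, ← pullback.condition, ← heq, Category.assoc, reassoc_of% he₁₀]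
    exact q_hom L)
  -- the two points of `V` have the same image in `U` iff they differ by the gluing
  have hmove : ∀ {Z : X.Etale} (a : Z ⟶ L.V) (x : Z ⟶ L.S'),
      (pair L a x ≫ theta L) ≫ πU = a ≫ πU := fun {Z} a x => by
    refine MorphismProperty.Over.Hom.ext ?_
    have h : (a ≫ L.q).left ≫ p = x.left ≫ p :=
      (MorphismProperty.Over.w (a ≫ L.q)).trans (MorphismProperty.Over.w x).symm
    let v : Desc.Lifts (Over.mk (pullback.fst p U₀.hom)) (a ≫ L.q).left := ⟨a.left ≫ e₁, by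
      show (a.left ≫ e₁) ≫ pullback.fst p U₀.hom = a.left ≫ L.q.left
      rw [Category.assoc, ← heq, reassoc_of% he₁₀]⟩
    let w : Desc.Lifts (dd L).obj (a ≫ L.q).left := ⟨a.left, rfl⟩
    have hc := e.hom.comm (a ≫ L.q).left x.left h v w (show a.left = (a.left ≫ e₁) ≫ e₀ by
      rw [Category.assoc, he₁₀, Category.comp_id])
    show ((pair L a x).left ≫ (theta L).left) ≫ e₁ ≫ pullback.snd p U₀.hom = a.left ≫ e₁ ≫ pullback.snd p U₀.hom
    rw [show (pair L a x).left ≫ (theta L).left = (Desc.canMap p U₀ _ _ h v).1 ≫ e₀ from hc, Category.assoc,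
      reassoc_of% he₀₁, Desc.canMap_val, pullback.lift_snd]
    show (a.left ≫ e₁) ≫ _ = _
    rw [Category.assoc]
  have hsame : ∀ {Z : X.Etale} (a b : Z ⟶ L.V), P.map a.op L.s = P.map b.op L.s → a ≫ πU = b ≫ πU :=
    fun {Z} a b h => (hmove a (b ≫ L.q)).symm.trans (by rw [pair_theta_eq L a b h])
  haveI : Surjective πU.left := by
    haveI : Surjective (pullback.snd p U₀.hom) := MorphismProperty.pullback_snd (P := @Surjective) _ _ L.surj
    haveI : IsIso e₁ := ⟨e₀, he₁₀, he₀₁⟩
    exact inferInstanceAs (Surjective (e₁ ≫ pullback.snd p U₀.hom))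
  -- the universal section
  have hsame' : ∀ {Z : X.Etale} (a b : Z ⟶ L.V), a ≫ πU = b ≫ πU → P.map a.op L.s = P.map b.op L.s :=
    fun {Z} a b h => by
      have hb : pair L a (b ≫ L.q) ≫ theta L = b := by
        let c := pair L a (b ≫ L.q) ≫ theta L
        have hq : c ≫ L.q = b ≫ L.q := by rw [Category.assoc, theta_q, pair_ρ]
        have hπ : c ≫ πU = b ≫ πU := (hmove a (b ≫ L.q)).trans h
        refine MorphismProperty.Over.Hom.ext ?_
        haveI : IsIso e₁ := ⟨e₀, he₁₀, he₀₁⟩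
        rw [← cancel_mono e₁]
        refine pullback.hom_ext ?_ ?_
        · rw [Category.assoc, Category.assoc, ← heq, reassoc_of% he₁₀]
          exact congrArg (fun f : Z ⟶ L.S' => f.left) hq
        · rw [Category.assoc, Category.assoc]
          exact congrArg (fun f : Z ⟶ U => f.left) hπ
      rw [← hb, pair_theta_s]
  have glue : ∀ {A B : X.Etale} (f : B ⟶ A), Surjective f.left → Presieve.IsSheafFor P (Presieve.singleton f) :=
    fun f hf => (Presieve.isSheafFor_iff_generate _).2 (hP _ (haveI := hf; EtSheafCrit.singleton_mem f))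
  obtain ⟨t, ht, -⟩ := Presieve.isSheafFor_singleton.1 (glue πU ‹_›) L.s fun a b h => hsame' a b h
  refine ⟨U, ‹IsFinite U₀.hom›, t, fun W => ?_⟩
  haveI hπsurj : Surjective (bcπ L W).left :=
    MorphismProperty.pullback_fst (P := @Surjective) _ _ L.surj
  refine ⟨fun b₁ b₂ hb => ?_, fun σ => ?_⟩
  · haveI : Flat (bcπ L W).left := inferInstance
    haveI : Epi (bcπ L W).left := Flat.epi_of_flat_of_surjective _
    have hl : ∀ b : W ⟶ U, (bcρ L W).left ≫ p = ((bcπ L W) ≫ b).left ≫ U₀.hom := fun b =>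
      (MorphismProperty.Over.w (bcρ L W)).trans (MorphismProperty.Over.w (bcπ L W ≫ b)).symm
    let v : (W ⟶ U) → (bc L W ⟶ L.V) := fun b => MorphismProperty.Over.homMk
      (pullback.lift (bcρ L W).left (bcπ L W ≫ b).left (hl b) ≫ e₀) (by
        show (_ ≫ e₀) ≫ L.V.hom = _
        rw [← q_hom, Category.assoc, reassoc_of% heq, pullback.lift_fst_assoc]
        exact MorphismProperty.Over.w (bcρ L W))
    have hv₁ : ∀ b, v b ≫ L.q = bcρ L W := fun b => MorphismProperty.Over.Hom.ext (by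
      show (_ ≫ e₀) ≫ L.q.left = _
      rw [Category.assoc, heq, pullback.lift_fst])
    have hv₂ : ∀ b, v b ≫ πU = bcπ L W ≫ b := fun b => MorphismProperty.Over.Hom.ext (by
      show (_ ≫ e₀) ≫ e₁ ≫ pullback.snd p U₀.hom = _
      rw [Category.assoc, reassoc_of% he₀₁, pullback.lift_snd])
    have hv₃ : ∀ b, P.map (v b).op L.s = P.map (bcπ L W).op (P.map b.op t) := fun b => by
      rw [← ht, map_map, hv₂, ← map_map]
    have hv : v b₁ = v b₂ := (L.uni (bc L W) (bcρ L W) (P.map (v b₁).op L.s)).unique ⟨hv₁ b₁, rfl⟩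
      ⟨hv₁ b₂, by rw [hv₃, hv₃]; exact congrArg _ hb.symm⟩
    refine MorphismProperty.Over.Hom.ext ((cancel_epi (bcπ L W).left).1 ?_)
    exact congrArg (fun f : bc L W ⟶ U => f.left) (((hv₂ b₁).symm.trans (by rw [hv])).trans (hv₂ b₂))
  · obtain ⟨a, ⟨-, ha⟩, -⟩ := L.uni (bc L W) (bcρ L W) (P.map (bcπ L W).op σ)
    let K : X.Etale :=
      haveI := (bc L W).prop
      Scheme.Etale.mk (pullback.fst (bcπ L W).left (bcπ L W).left ≫ (bc L W).hom)
    let k₁ : K ⟶ bc L W := MorphismProperty.Over.homMk (pullback.fst (bcπ L W).left (bcπ L W).left) rfl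
    let k₂ : K ⟶ bc L W := MorphismProperty.Over.homMk (pullback.snd (bcπ L W).left (bcπ L W).left) (by
      show _ = pullback.fst (bcπ L W).left (bcπ L W).left ≫ (bc L W).hom
      rw [← MorphismProperty.Over.w (bcπ L W), ← Category.assoc, ← Category.assoc, pullback.condition])
    have hk : k₁ ≫ bcπ L W = k₂ ≫ bcπ L W := MorphismProperty.Over.Hom.ext pullback.condition
    have hka : k₁ ≫ a ≫ πU = k₂ ≫ a ≫ πU := by
      rw [← Category.assoc, ← Category.assoc]
      refine hsame _ _ ?_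
      rw [← map_map, ← map_map, ha, map_map, map_map, hk]
    haveI : EffectiveEpi (bcπ L W).left := inferInstance
    let b₀ : W.left ⟶ U.left := EffectiveEpi.desc (bcπ L W).left (a ≫ πU).left fun g₁ g₂ hg => by
      have hg' : pullback.lift g₁ g₂ hg ≫ (k₁ ≫ a ≫ πU).left = pullback.lift g₁ g₂ hg ≫ (k₂ ≫ a ≫ πU).left := by
        rw [hka]
      change pullback.lift g₁ g₂ hg ≫ pullback.fst _ _ ≫ (a ≫ πU).left =
        pullback.lift g₁ g₂ hg ≫ pullback.snd _ _ ≫ (a ≫ πU).left at hg'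
      rwa [pullback.lift_fst_assoc, pullback.lift_snd_assoc] at hg'
    have hb₀ : (bcπ L W).left ≫ b₀ = (a ≫ πU).left := EffectiveEpi.fac _ _ _
    haveI : Epi (bcπ L W).left := inferInstance
    let b : W ⟶ U := MorphismProperty.Over.homMk b₀ (by
      rw [← cancel_epi (bcπ L W).left, reassoc_of% hb₀]
      exact (MorphismProperty.Over.w (a ≫ πU)).trans (MorphismProperty.Over.w (bcπ L W)).symm)
    refine ⟨b, ?_⟩
    obtain ⟨y, -, hy⟩ := Presieve.isSheafFor_singleton.1 (glue (bcπ L W) hπsurj) (P.map (bcπ L W).op σ)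
      fun g₁ g₂ h => by rw [map_map, map_map, h]
    refine (hy _ ?_).trans (hy σ rfl).symm
    show P.map (bcπ L W).op (P.map b.op t) = _
    rw [map_map, show bcπ L W ≫ b = a ≫ πU from MorphismProperty.Over.Hom.ext hb₀, ← map_map, ht, ha]

end Groth.Agent.EtRepLib
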