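import Groth.Agent.FLCLib.Criterion
import Groth.Agent.S9559
import Groth.Agent.EtPtsLib.Conditions
import Groth.Prelude.Def_CohProp

/-!
# The sheaf of a finite etale scheme is finite locally constant
-/

set_option autoImplicit false
set_option backward.isDefEq.respectTransparency false
set_option backward.isDefEq.respectTransparency.types false
set_option maxHeartbeats 1000000

universe w v u

open CategoryTheory CategoryTheory.Limits AlgebraicGeometry Opposite GrothendieckTopology

noncomputable section

namespace Groth.Agent.EtRepLib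

section Site

variable {C : Type u} [Category.{v} C] (J : GrothendieckTopology C) (U : C) {P Q : Cᵒᵖ ⥤ Type w} (φ : P ⟶ Q)

theorem isLocallyInjective_whisker [Presheaf.IsLocallyInjective J φ] :
    Presheaf.IsLocallyInjective (J.over U) (Functor.whiskerLeft (Over.forget U).op φ) := by
  refine ⟨fun {Y} x y h => ?_⟩
  rw [mem_over_iff]
  refine J.superset_covering ?_ (Presheaf.equalizerSieve_mem J φ x y h)
  intro Z g hg
  exact (Sieve.overEquiv_iff _ _).2 hg

theorem isLocallySurjective_whisker [Presheaf.IsLocallySurjective J φ] :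
    Presheaf.IsLocallySurjective (J.over U) (Functor.whiskerLeft (Over.forget U).op φ) := by
  refine ⟨fun {Y} s => ?_⟩
  rw [mem_over_iff]
  refine J.superset_covering ?_ (Presheaf.imageSieve_mem J φ (U := op Y.left) s)
  intro Z g hg
  exact (Sieve.overEquiv_iff _ _).2 hg

/-- Sheaves receiving locally bijective maps from the same presheaf are isomorphic. -/
theorem nonempty_iso_of_locally_bijective [HasWeakSheafify J (Type w)] [J.WEqualsLocallyBijective (Type w)]
    {R : Cᵒᵖ ⥤ Type w} {F G : Sheaf J (Type w)} (a : R ⟶ F.obj) (b : R ⟶ G.obj)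
    [Presheaf.IsLocallyInjective J a] [Presheaf.IsLocallySurjective J a]
    [Presheaf.IsLocallyInjective J b] [Presheaf.IsLocallySurjective J b] : Nonempty (F ≅ G) := by
  have h : ∀ (F : Sheaf J (Type w)) (a : R ⟶ F.obj) [Presheaf.IsLocallyInjective J a] [Presheaf.IsLocallySurjective J a],
      Nonempty ((presheafToSheaf J (Type w)).obj R ≅ F) := fun F a _ _ => by
    let φ : (presheafToSheaf J (Type w)).obj R ⟶ F := ((sheafificationAdjunction J (Type w)).homEquiv R F).symm a
    have fac : CategoryTheory.toSheafify J R ≫ φ.hom = a := by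
      have := ((sheafificationAdjunction J (Type w)).homEquiv R F).apply_symm_apply a
      rwa [Adjunction.homEquiv_unit] at this
    haveI : Sheaf.IsLocallyInjective φ :=
      Presheaf.isLocallyInjective_of_isLocallyInjective_of_isLocallySurjective_fac J a fac
    haveI : Sheaf.IsLocallySurjective φ := Presheaf.isLocallySurjective_of_isLocallySurjective_fac J fac
    haveI : IsIso φ := (Sheaf.isLocallyBijective_iff_isIso φ).1 ⟨inferInstance, inferInstance⟩
    exact ⟨asIso φ⟩
  exact ⟨(h F a).some.symm ≪≫ (h G b).some⟩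

end Site

variable {S X : Scheme.{u}} (f : X ⟶ S) [AlgebraicGeometry.Etale f] [IsFinite f]

open FLCLib

theorem isFinLocConstSet_repSh : CohProp.IsFinLocConstSet (EtDesc.repSh (Scheme.Etale.mk f)) := by
  choose U g hg p hp n V c hc e he using fun s : S => Groth.Agent.S9559.result f s
  haveI := hg
  refine ⟨S, fun s => Scheme.Etale.mk (g s), fun s => ⟨s, p s, hp s⟩, fun s => ⟨ULift (Fin (n s)), inferInstance, ?_⟩⟩
  haveI := hc s
  let A : S.Etale := Scheme.Etale.mk (g s)
  let B : S.Etale := Scheme.Etale.mk f
  let K := S.smallEtaleTopology.over A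
  let sec : Fin (n s) → (U s ⟶ pullback f (g s)) := fun j => inv (c s j) ≫ Sigma.ι (V s) j ≫ (e s).hom
  have hsec : ∀ j, sec j ≫ pullback.snd f (g s) = 𝟙 _ := fun j => by
    simp only [sec, Category.assoc, he, IsIso.inv_hom_id]
  let σ : Fin (n s) → (A ⟶ B) := fun j => MorphismProperty.Over.homMk (sec j ≫ pullback.fst f (g s))
    (by show (sec j ≫ pullback.fst f (g s)) ≫ f = g s
        rw [Category.assoc, pullback.condition, ← Category.assoc, hsec, Category.id_comp])
  let Y₀ : S.Etaleᵒᵖ ⥤ Type (u + 1) := yoneda.obj B ⋙ uliftFunctor.{u + 1, u}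
  let R : (Over A)ᵒᵖ ⥤ Type (u + 1) := (Functor.const (Over A)ᵒᵖ).obj (ULift (Fin (n s)))
  let ψ : R ⟶ (Over.forget A).op ⋙ Y₀ :=
    { app := fun T => TypeCat.ofHom fun j => ULift.up (T.unop.hom ≫ σ j.down)
      naturality := fun T T' a => by
        ext j
        exact congrArg ULift.up ((congrArg (· ≫ σ j.down) (Over.w a.unop).symm).trans (Category.assoc _ _ _)) }
  haveI : Presheaf.IsLocallyInjective K ψ := ⟨fun {T} a b hab => mem_over_of_pointwise _ fun v =>
    ⟨T.unop, 𝟙 _, v, by
      show a = b
      have h1 : (T.unop.hom ≫ σ a.down).left = (T.unop.hom ≫ σ b.down).left := congrArg (fun z => z.down.left) hab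
      have h2 : T.unop.hom.left ≫ sec a.down = T.unop.hom.left ≫ sec b.down := by
        refine pullback.hom_ext ?_ ?_
        · refine (Category.assoc _ (sec a.down) _).trans (Eq.trans ?_ (Category.assoc _ (sec b.down) _).symm)
          exact h1
        · refine (Category.assoc _ (sec a.down) _).trans (Eq.trans ?_ (Category.assoc _ (sec b.down) _).symm)
          exact (congrArg (T.unop.hom.left ≫ ·) (hsec a.down)).trans (congrArg (T.unop.hom.left ≫ ·) (hsec b.down)).symm
      have h3 := congrArg (fun m => (m ≫ (e s).inv) v) h2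
      simp only [sec, Category.assoc, Iso.hom_inv_id, Category.comp_id] at h3
      by_contra hne
      exact Set.disjoint_left.1 (TopologicalSpace.Opens.coe_disjoint.2
        (disjoint_opensRange_sigmaι (V s) a.down b.down fun h => hne (ULift.ext _ _ h)))
        ⟨_, rfl⟩ ⟨_, h3.symm⟩, rfl⟩⟩
  haveI : Presheaf.IsLocallySurjective K ψ := ⟨fun {T} h => mem_over_of_pointwise _ fun v => by
    have hw : h.down.left ≫ f = T.hom.left ≫ g s :=
      (MorphismProperty.Over.w h.down).trans (MorphismProperty.Over.w T.hom).symm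
    let k : T.left.left ⟶ ∐ V s := pullback.lift h.down.left T.hom.left hw ≫ (e s).inv
    obtain ⟨j, y, hy⟩ := (sigmaOpenCover (V s)).exists_eq (k v)
    let O : T.left.left.Opens := k ⁻¹ᵁ (Sigma.ι (V s) j).opensRange
    have hO : v ∈ O := ⟨y, hy⟩
    refine ⟨Over.mk (EtPtsLib.openIncl T.left O ≫ T.hom), Over.homMk (EtPtsLib.openIncl T.left O), ⟨v, hO⟩,
      ⟨ULift.up j, ?_⟩, rfl⟩
    show ULift.up ((EtPtsLib.openIncl T.left O ≫ T.hom) ≫ σ j) = ULift.up (EtPtsLib.openIncl T.left O ≫ h.down)
    refine congrArg ULift.up (MorphismProperty.Over.Hom.ext ?_)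
    let l : O.toScheme ⟶ V s j := IsOpenImmersion.lift (Sigma.ι (V s) j) (O.ι ≫ k) (by
      rintro _ ⟨z, rfl⟩
      exact z.2)
    have hl : l ≫ Sigma.ι (V s) j ≫ (e s).hom = O.ι ≫ pullback.lift h.down.left T.hom.left hw := by
      rw [← Category.assoc, IsOpenImmersion.lift_fac]
      simp only [k, Category.assoc, Iso.inv_hom_id, Category.comp_id]
    have hl1 : l ≫ c s j = O.ι ≫ T.hom.left := by
      have := congrArg (· ≫ pullback.snd f (g s)) hl
      simpa only [Category.assoc, he, pullback.lift_snd] using this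
    show (O.ι ≫ T.hom.left) ≫ sec j ≫ pullback.fst f (g s) = O.ι ≫ h.down.left
    rw [← hl1]
    simp only [sec, Category.assoc, IsIso.hom_inv_id_assoc]
    have := congrArg (· ≫ pullback.fst f (g s)) hl
    simpa only [Category.assoc, pullback.lift_fst] using this⟩
  haveI := isLocallyInjective_whisker S.smallEtaleTopology A (CategoryTheory.toSheafify S.smallEtaleTopology Y₀)
  haveI := isLocallySurjective_whisker S.smallEtaleTopology A (CategoryTheory.toSheafify S.smallEtaleTopology Y₀)
  let R₀ : S.Etaleᵒᵖ ⥤ Type (u + 1) := (Functor.const S.Etaleᵒᵖ).obj (ULift.{u + 1} (Fin (n s)))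
  haveI := isLocallyInjective_whisker S.smallEtaleTopology A (CategoryTheory.toSheafify S.smallEtaleTopology R₀)
  haveI := isLocallySurjective_whisker S.smallEtaleTopology A (CategoryTheory.toSheafify S.smallEtaleTopology R₀)
  exact nonempty_iso_of_locally_bijective K (R := R) (F := (EtDesc.repSh B).over A)
    (G := (CohProp.constSh S (ULift (Fin (n s)))).over A)
    (ψ ≫ Functor.whiskerLeft (Over.forget A).op (CategoryTheory.toSheafify S.smallEtaleTopology Y₀))
    (Functor.whiskerLeft (Over.forget A).op (CategoryTheory.toSheafify S.smallEtaleTopology R₀))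

end Groth.Agent.EtRepLib
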