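import Groth.Agent.EtRepLib.Const
import Groth.Agent.EtRepLib.RepFinite
import Groth.Prelude.Def_EtOpen

/-!
# Finite locally constant sheaves of sets are representable
-/

set_option autoImplicit false
set_option backward.isDefEq.respectTransparency false
set_option backward.isDefEq.respectTransparency.types false

universe u

open CategoryTheory CategoryTheory.Limits AlgebraicGeometry Opposite GrothendieckTopology

noncomputable section

namespace Groth.Agent.EtRepLib

open EtPtsLib FLCLib

variable {S : Scheme.{u}} (F : EtDesc.Sh S) (hF : CohProp.IsFinLocConstSet F)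

include hF in
theorem nonempty_constData_sets : Nonempty (ConstData F.obj) := by
  obtain ⟨ι, U, hU, hM⟩ := hF
  choose M hfin φ using hM
  haveI := hfin
  let J := S.smallEtaleTopology
  let R₀ : ι → (S.Etaleᵒᵖ ⥤ Type (u + 1)) := fun i => (Functor.const S.Etaleᵒᵖ).obj (M i)
  let a : ∀ i, (Over.forget (U i)).op ⋙ R₀ i ⟶ (F.over (U i)).obj := fun i =>
    Functor.whiskerLeft (Over.forget (U i)).op (CategoryTheory.toSheafify J (R₀ i)) ≫ (φ i).some.inv.hom
  have ha1 : ∀ i, Presheaf.IsLocallyInjective (J.over (U i)) (a i) := fun i => by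
    haveI := isLocallyInjective_whisker J (U i) (CategoryTheory.toSheafify J (R₀ i))
    haveI : Presheaf.IsLocallyInjective (J.over (U i)) (φ i).some.inv.hom :=
      ((Sheaf.isLocallyBijective_iff_isIso (φ i).some.inv).2 inferInstance).1
    exact Presheaf.isLocallyInjective_comp _ _ _
  have ha2 : ∀ i, Presheaf.IsLocallySurjective (J.over (U i)) (a i) := fun i => by
    haveI := isLocallySurjective_whisker J (U i) (CategoryTheory.toSheafify J (R₀ i))
    haveI : Presheaf.IsLocallySurjective (J.over (U i)) (φ i).some.inv.hom :=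
      ((Sheaf.isLocallyBijective_iff_isIso (φ i).some.inv).2 inferInstance).2
    exact Presheaf.isLocallySurjective_comp _ _ _
  let θ : ∀ i, M i → F.obj.obj (op (U i)) := fun i m => (a i).app (op (Over.mk (𝟙 (U i)))) m
  have nat : ∀ (i : ι) (W : S.Etale) (g : W ⟶ U i) (m : M i), F.obj.map g.op (θ i m) = (a i).app (op (Over.mk g)) m :=
    fun i W g m => (NatTrans.naturality_apply (a i) (Over.homMk g (Category.comp_id g) : Over.mk g ⟶ Over.mk (𝟙 (U i))).op m).symm
  refine ⟨{ ι := ι, U := U, cov := fun x => ?_, n := fun i => Nat.card (M i)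
            θ := fun i m => θ i ((Finite.equivFin (M i)).symm m), gen := ?_, sep := ?_ }⟩
  · obtain ⟨i, y, hy⟩ := hU x
    exact ⟨i, y, hy⟩
  · intro i W g σ v
    haveI := ha2 i
    obtain ⟨Z, k, z, ⟨m, hm⟩, hz⟩ := exists_mem_over
      (Presheaf.imageSieve_mem (J.over (U i)) (a i) (U := op (Over.mk g)) σ) v
    refine ⟨Z.left, k.left, z, Finite.equivFin (M i) m, hz, ?_⟩
    rw [Equiv.symm_apply_apply]
    refine (show F.obj.map k.left.op σ = (a i).app (op Z) m from hm.symm).trans ?_
    refine Eq.trans ?_ (nat i Z.left (k.left ≫ g) m).symm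
    refine Eq.trans ?_ (NatTrans.naturality_apply (a i)
      (Over.homMk (𝟙 Z.left) ((Category.id_comp _).trans (Over.w k).symm) : Over.mk (k.left ≫ g) ⟶ Z).op m).symm
    show _ = F.obj.map (𝟙 Z.left).op _
    rw [op_id, F.obj.map_id]
    rfl
  · intro i W g v m m' h
    haveI := ha1 i
    refine (Finite.equivFin (M i)).symm.injective ?_
    obtain ⟨Z, k, z, hk, -⟩ := exists_mem_over
      (Presheaf.equalizerSieve_mem (J.over (U i)) (a i) (X := op (Over.mk g)) _ _
        ((nat i W g _).symm.trans (h.trans (nat i W g _)))) v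
    exact hk

include hF in
theorem exists_finite_repSh_iso : ∃ (U : S.Etale) (_ : IsFinite U.hom), Nonempty (F ≅ EtDesc.repSh U) := by
  obtain ⟨D⟩ := nonempty_constData_sets F hF
  obtain ⟨U, hU, t, ht⟩ := D.exists_representing ((isSheaf_iff_isSheaf_of_type _ _).1 F.property)
  have i₁ : F.obj ≅ yoneda.obj U ⋙ uliftFunctor.{u + 1, u} :=
    (NatIso.ofComponents (fun W => (Equiv.ulift.trans (Equiv.ofBijective _ (ht W.unop))).toIso)
      fun {V W} f => by
        ext a
        exact (map_map f.unop a.down t).symm).symm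
  have hs : Presheaf.IsSheaf S.smallEtaleTopology (yoneda.obj U ⋙ uliftFunctor.{u + 1, u}) :=
    (Presheaf.isSheaf_of_iso_iff i₁).1 F.property
  exact ⟨U, hU, ⟨(fullyFaithfulSheafToPresheaf _ _).preimageIso (i₁ ≪≫ isoSheafify _ hs)⟩⟩

end Groth.Agent.EtRepLib
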